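import Cfsg.Agent.H965.XZ.IdxD
import Cfsg.Agent.H470.EPK.ParOfVJ
import Cfsg.Agent.Prune
set_option linter.all false
prune_inst 0x7f00000000000000000000000000000000000000000000000000000000000000000000000000000000000000000000000000000000000000000000000000000000000000000000000000000000000000003fffffffffffffffffffffffffffbeffbdffffffff
open scoped Cfsg.Agent.FastGrp

/-!
# S5745 / S3499, own characteristic, `q = 2`: which node survives (helper284)

`Res cs h T X i` : for every `K ≠ I` the number `|P_K : P_{K - i}| + 1` is a power of 2 (helper737's `Q2.res_pow'`).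

Local kills (`|X_j| = 2` unless stated otherwise): `i` is the middle node of a proper `A₃` (36), the node of a proper
`B₂` with `|X_i| = 2`, `|X_b| = 4` (28), the middle (316) or the last node (136) of a proper `B₃` / `C₃`, the first node of
a proper `B₃` with parameters (2, 2, 4) (120), the end of a proper `D₄`, `D₅`, `D₆`, `D₇` (136, 528, 2080, 8256).

Survivors: `A_n` : an end node or `n = 3`; `B_m` all 2 : the first node or `m = 3`; `(4, …, 4, 2)` : `m = 2`;
`(2, …, 2, 4)` : the first node; `D_m` : the first node or `m = 4`; `F₄` all 2 : the two end nodes;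
`E₆`, `E₇`, `E₈`, `F₄` (2, 2, 4, 4) : no node.
-/

set_option autoImplicit false
set_option linter.unusedSectionVars false

namespace Cfsg.Agent.H284.TThree

open CoxeterSystem Cfsg.Agent.ChevalleyStructure.CoxeterGeom Cfsg.Agent.Tits.Roots Cfsg.Agent.Tits.Core
  Cfsg.Agent.Tits.RootComb Cfsg.Agent.Tits.Exchange Cfsg.Agent.Nodes.Comb Cfsg.Agent.Nodes.Reps
  Cfsg.Agent.Nodes.BNOf Cfsg.Agent.Nodes.StabComb Cfsg.Agent.Nodes.Bruhat Cfsg.Agent.Nodes.OppDec
  Cfsg.Agent.Nodes.LeviDec Cfsg.Agent.Nodes.NormalForm Cfsg.Agent.ChevalleyStructure.WeylAbstract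
  Cfsg.Agent.H35.Poin Cfsg.Agent.H965.XZ

/-- no power of two -/
theorem not_pow {a b : ℕ} (h1 : 2 ^ b < a) (h2 : a < 2 ^ (b + 1)) : ¬ ∃ s, a = 2 ^ s := by
  rintro ⟨s, rfl⟩
  rw [Nat.pow_lt_pow_iff_right (by norm_num)] at h1 h2
  omega

/-- a walk with three nodes -/
def c3 {I : Type*} (a b c : I) : ℕ → I
  | 0 => a
  | 1 => b
  | _ => c

section

variable {I W Y : Type*} [Group W] [Group Y] {M : CoxeterMatrix I}
  (cs : CoxeterSystem M W) {A : I → I → ℤ} [Fintype I] (h : IsCartan M A) (T : Subgroup Y)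
  (X : (I → ℤ) → Subgroup Y)

/-- property (C) -/
def Res [DecidableEq I] (i : I) : Prop :=
  ∀ K : Set I, K ≠ Set.univ → ∃ s, (PJ cs h T X (K \ {i})).relIndex (PJ cs h T X K) + 1 = 2 ^ s

end

section

variable {I W Y : Type*} [Fintype I] [DecidableEq I] [Group W] [Group Y] {M : CoxeterMatrix I}
  {cs : CoxeterSystem M W} {A : I → I → ℤ} {h : IsCartan M A} {p : ℕ} {T : Subgroup Y} {n : I → Y}
  {X : (I → ℤ) → Subgroup Y} (R : RGD cs h p T n X)

theorem relIndex_of_card [Finite Y] {K L : Set I} (hKL : L ⊆ K) {r : ℕ}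
    (hc : Nat.card ↥(PJ cs h T X K) = r * Nat.card ↥(PJ cs h T X L)) :
    (PJ cs h T X L).relIndex (PJ cs h T X K) = r := by
  have h1 := Subgroup.relIndex_mul_relIndex ⊥ (PJ cs h T X L) (PJ cs h T X K) bot_le (H470.EPK.PJ_mono hKL)
  rw [Subgroup.relIndex_bot_left, Subgroup.relIndex_bot_left, hc, mul_comm] at h1
  exact Nat.eq_of_mul_eq_mul_right Nat.card_pos h1

theorem kill [Finite Y] {i : I} (hres : Res cs h T X i) {K : Set I} (hK : K ≠ Set.univ) {r b : ℕ}
    (hc : Nat.card ↥(PJ cs h T X K) = r * Nat.card ↥(PJ cs h T X (K \ {i})))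
    (h1 : 2 ^ b < r + 1) (h2 : r + 1 < 2 ^ (b + 1)) : False := by
  obtain ⟨s, hs⟩ := hres K hK
  rw [relIndex_of_card Set.sdiff_subset hc] at hs
  exact not_pow h1 h2 ⟨s, hs⟩

variable [Finite W] [Finite Y]

include R

theorem card_one {a : I} {y : ℕ} (ha : Nat.card (X (sr a)) = y) :
    Nat.card ↥(PJ cs h T X {a}) = (1 + y) * Nat.card ↥(RGD.B cs h T X) := by
  rw [card_PJ_path R (J := {a}) (c := fun _ => a) (m := 1) (y := y) ⟨fun t _ => rfl, fun t ht => by omega,
    fun s t h1 h2 => by omega, fun j hj hc t _ => (hc 0 one_pos (Set.mem_singleton_iff.1 hj).symm).elim,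
    fun s hs t ht _ => by omega⟩ fun _ _ => ha]
  have e : ({a} : Set I) \ {j | ∃ t < 1, a = j} = ∅ := by
    rw [Set.eq_empty_iff_forall_notMem]
    rintro j ⟨h1, h2⟩
    exact h2 ⟨0, one_pos, h1.symm⟩
  rw [e, Cfsg.Agent.H35.Poin.PJ_empty]
  simp only [Finset.sum_range_succ, _root_.Finset.range_one, _root_.Finset.prod_singleton, _root_.Finset.range_zero, _root_.Finset.sum_empty, _root_.pow_zero, _root_.zero_add, _root_.pow_one]

theorem card_comm {a b : I} (hab : a ≠ b) (h0 : A a b = 0) {y z : ℕ} (ha : Nat.card (X (sr a)) = y)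
    (hb : Nat.card (X (sr b)) = z) :
    Nat.card ↥(PJ cs h T X {a, b}) = (1 + y) * (1 + z) * Nat.card ↥(RGD.B cs h T X) := by
  rw [card_PJ_path R (c := fun _ => a) (m := 1) (y := y) ⟨fun t _ => Or.inl rfl, fun t ht => by omega,
    fun s t h1 h2 => by omega, fun j hj hc t _ => ?_, fun s hs t ht _ => by omega⟩ fun _ _ => ha]
  · have e : ({a, b} : Set I) \ {j | ∃ t < 1, a = j} = {b} := by
      ext j
      constructor
      · rintro ⟨h1 | h1, h2⟩
        · exact (h2 ⟨0, one_pos, h1.symm⟩).elim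
        · exact h1
      · rintro rfl
        exact ⟨Or.inr rfl, fun ⟨_, _, h2⟩ => hab h2⟩
    rw [e, card_one R hb]
    simp only [Finset.sum_range_succ, _root_.Finset.range_one, _root_.Finset.prod_singleton, _root_.Finset.range_zero, _root_.Finset.sum_empty, _root_.pow_zero, _root_.zero_add, _root_.pow_one]
    ring
  · rcases hj with h1 | h1
    · exact (hc 0 one_pos h1.symm).elim
    · rw [h1]
      exact h0

theorem card_A2 {a b : I} (h1 : A a b = -1) (h2 : A b a = -1) {y : ℕ} (ha : Nat.card (X (sr a)) = y)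
    (hb : Nat.card (X (sr b)) = y) :
    Nat.card ↥(PJ cs h T X {a, b}) = (1 + y) * (1 + y + y ^ 2) * Nat.card ↥(RGD.B cs h T X) := by
  have hab : a ≠ b := by
    rintro rfl
    rw [h.diag] at h1
    norm_num at h1
  rw [card_PJ_path R (c := c3 a b b) (m := 2) (y := y) ⟨?_, ?_, fun s t h3 h4 => by omega, ?_, ?_⟩ ?_]
  · have e : ({a, b} : Set I) \ {j | ∃ t < 2, c3 a b b t = j} = ∅ := by
      rw [Set.eq_empty_iff_forall_notMem]
      rintro j ⟨h3 | h3, h4⟩
      · exact h4 ⟨0, by norm_num, h3.symm⟩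
      · exact h4 ⟨1, by norm_num, h3.symm⟩
    rw [e, Cfsg.Agent.H35.Poin.PJ_empty]
    simp only [Finset.sum_range_succ, Finset.prod_range_succ, _root_.Finset.range_one, _root_.Finset.prod_singleton, _root_.Finset.range_zero, _root_.Finset.sum_empty, _root_.pow_zero, _root_.zero_add, _root_.pow_one, _root_.Finset.sum_singleton, _root_.Nat.reduceAdd]
  · intro t ht
    interval_cases t
    · exact Or.inl rfl
    · exact Or.inr rfl
  · intro t ht
    have : t = 0 := by omega
    subst this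
    exact ⟨h1, h2⟩
  · rintro j (h3 | h3) hc
    · exact (hc 0 (by norm_num) h3.symm).elim
    · exact (hc 1 (by norm_num) h3.symm).elim
  · intro s hs t ht e
    interval_cases s <;> interval_cases t
    · rfl
    · exact (hab e).elim
    · exact (hab e.symm).elim
    · rfl
  · intro t ht
    interval_cases t
    · exact ha
    · exact hb

theorem card_A3 {a b c : I} (h1 : A a b = -1 ∧ A b a = -1) (h2 : A b c = -1 ∧ A c b = -1)
    (h3 : A a c = 0 ∧ A c a = 0) {y : ℕ} (ha : Nat.card (X (sr a)) = y)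
    (hb : Nat.card (X (sr b)) = y) (hc : Nat.card (X (sr c)) = y) :
    Nat.card ↥(PJ cs h T X {a, b, c}) =
      (1 + y) * (1 + y + y ^ 2) * (1 + y + y ^ 2 + y ^ 3) * Nat.card ↥(RGD.B cs h T X) := by
  have hab : a ≠ b := by
    rintro rfl
    have := h1.1
    rw [h.diag] at this
    norm_num at this
  have hbc : b ≠ c := by
    rintro rfl
    have := h2.1
    rw [h.diag] at this
    norm_num at this
  have hac : a ≠ c := by
    rintro rfl
    have := h3.1
    rw [h.diag] at this
    norm_num at this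
  rw [card_PJ_path R (c := c3 a b c) (m := 3) (y := y) ⟨?_, ?_, ?_, ?_, ?_⟩ ?_]
  · have e : ({a, b, c} : Set I) \ {j | ∃ t < 3, c3 a b c t = j} = ∅ := by
      rw [Set.eq_empty_iff_forall_notMem]
      rintro j ⟨h3 | h3 | h3, h4⟩
      · exact h4 ⟨0, by norm_num, h3.symm⟩
      · exact h4 ⟨1, by norm_num, h3.symm⟩
      · exact h4 ⟨2, by norm_num, h3.symm⟩
    rw [e, Cfsg.Agent.H35.Poin.PJ_empty]
    simp only [Finset.sum_range_succ, Finset.prod_range_succ, _root_.Finset.range_one, _root_.Finset.prod_singleton, _root_.Finset.range_zero, _root_.Finset.sum_empty, _root_.pow_zero, _root_.zero_add, _root_.pow_one, _root_.Finset.sum_singleton, _root_.Nat.reduceAdd]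
  · intro t ht
    interval_cases t
    · exact Or.inl rfl
    · exact Or.inr (Or.inl rfl)
    · exact Or.inr (Or.inr rfl)
  · intro t ht
    have : t < 2 := by omega
    interval_cases t
    · exact h1
    · exact h2
  · intro s t h4 h5
    have : s = 0 := by omega
    have : t = 2 := by omega
    subst_vars
    exact h3
  · rintro j (h4 | h4 | h4) hc
    · exact (hc 0 (by norm_num) h4.symm).elim
    · exact (hc 1 (by norm_num) h4.symm).elim
    · exact (hc 2 (by norm_num) h4.symm).elim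
  · intro s hs t ht e
    have hba := hab.symm
    have hcb := hbc.symm
    have hca := hac.symm
    interval_cases s <;> interval_cases t <;> first
      | rfl
      | exact (hab e).elim
      | exact (hba e).elim
      | exact (hbc e).elim
      | exact (hcb e).elim
      | exact (hac e).elim
      | exact (hca e).elim
  · intro t ht
    interval_cases t
    · exact ha
    · exact hb
    · exact hc

theorem card_B2 {b c : I} (h2 : (A b c = -1 ∧ A c b = -2) ∨ (A b c = -2 ∧ A c b = -1)) {y z : ℕ}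
    (hb : Nat.card (X (sr b)) = y) (hc : Nat.card (X (sr c)) = z) :
    Nat.card ↥(PJ cs h T X {b, c}) = (1 + z) * (1 + y) * (1 + y * z) * Nat.card ↥(RGD.B cs h T X) := by
  have hbc : b ≠ c := by
    rintro rfl
    rcases h2 with h2 | h2
    · have := h2.1
      rw [h.diag] at this
      norm_num at this
    · have := h2.1
      rw [h.diag] at this
      norm_num at this
  rw [card_PJ_bpath R (c := c3 b c c) (k := 2) (y := y) (z := z) ⟨?_, ?_, ?_, ?_, ?_, ?_⟩ ?_ ?_]
  · have e : ({b, c} : Set I) \ {j | ∃ t < 2, c3 b c c t = j} = ∅ := by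
      rw [Set.eq_empty_iff_forall_notMem]
      rintro j ⟨h3 | h3, h4⟩
      · exact h4 ⟨0, by norm_num, h3.symm⟩
      · exact h4 ⟨1, by norm_num, h3.symm⟩
    rw [e, Cfsg.Agent.H35.Poin.PJ_empty]
    simp only [Finset.prod_range_succ, Finset.prod_range_zero, gs, Finset.sum_range_succ, Finset.sum_range_zero]
    ring
  · intro t ht
    interval_cases t
    · exact Or.inl rfl
    · exact Or.inr rfl
  · intro t ht
    omega
  · intro t ht
    have : t = 0 := by omega
    subst this
    exact h2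
  · intro s t h4 h5
    omega
  · rintro j (h3 | h3) hc
    · exact (hc 0 (by norm_num) h3.symm).elim
    · exact (hc 1 (by norm_num) h3.symm).elim
  · intro s hs t ht e
    interval_cases s <;> interval_cases t
    · rfl
    · exact (hbc e).elim
    · exact (hbc e.symm).elim
    · rfl
  · intro t ht
    have : t = 0 := by omega
    subst this
    exact hb
  · intro t ht
    have : t = 1 := by omega
    subst this
    exact hc

theorem card_B3 {a b c : I} (h1 : A a b = -1 ∧ A b a = -1)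
    (h2 : (A b c = -1 ∧ A c b = -2) ∨ (A b c = -2 ∧ A c b = -1))
    (h3 : A a c = 0 ∧ A c a = 0) {y z : ℕ} (ha : Nat.card (X (sr a)) = y)
    (hb : Nat.card (X (sr b)) = y) (hc : Nat.card (X (sr c)) = z) :
    Nat.card ↥(PJ cs h T X {a, b, c}) =
      (1 + z) * (1 + y) * (1 + y * z) * ((1 + y + y ^ 2) * (1 + y ^ 2 * z)) * Nat.card ↥(RGD.B cs h T X) := by
  have hab : a ≠ b := by
    rintro rfl
    have := h1.1
    rw [h.diag] at this
    norm_num at this
  have hbc : b ≠ c := by
    rintro rfl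
    rcases h2 with h2 | h2
    · have := h2.1
      rw [h.diag] at this
      norm_num at this
    · have := h2.1
      rw [h.diag] at this
      norm_num at this
  have hac : a ≠ c := by
    rintro rfl
    have := h3.1
    rw [h.diag] at this
    norm_num at this
  rw [card_PJ_bpath R (c := c3 a b c) (k := 3) (y := y) (z := z) ⟨?_, ?_, ?_, ?_, ?_, ?_⟩ ?_ ?_]
  · have e : ({a, b, c} : Set I) \ {j | ∃ t < 3, c3 a b c t = j} = ∅ := by
      rw [Set.eq_empty_iff_forall_notMem]
      rintro j ⟨h3 | h3 | h3, h4⟩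
      · exact h4 ⟨0, by norm_num, h3.symm⟩
      · exact h4 ⟨1, by norm_num, h3.symm⟩
      · exact h4 ⟨2, by norm_num, h3.symm⟩
    rw [e, Cfsg.Agent.H35.Poin.PJ_empty]
    simp only [Finset.prod_range_succ, Finset.prod_range_zero, gs, Finset.sum_range_succ, Finset.sum_range_zero]
    ring
  · intro t ht
    interval_cases t
    · exact Or.inl rfl
    · exact Or.inr (Or.inl rfl)
    · exact Or.inr (Or.inr rfl)
  · intro t ht
    have : t = 0 := by omega
    subst this
    exact h1
  · intro t ht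
    have : t = 1 := by omega
    subst this
    exact h2
  · intro s t h4 h5
    have : s = 0 := by omega
    have : t = 2 := by omega
    subst_vars
    exact h3
  · rintro j (h4 | h4 | h4) hc
    · exact (hc 0 (by norm_num) h4.symm).elim
    · exact (hc 1 (by norm_num) h4.symm).elim
    · exact (hc 2 (by norm_num) h4.symm).elim
  · intro s hs t ht e
    have hba := hab.symm
    have hcb := hbc.symm
    have hca := hac.symm
    interval_cases s <;> interval_cases t <;> first
      | rfl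
      | exact (hab e).elim
      | exact (hba e).elim
      | exact (hbc e).elim
      | exact (hcb e).elim
      | exact (hac e).elim
      | exact (hca e).elim
  · intro t ht
    have : t < 2 := by omega
    interval_cases t
    · exact ha
    · exact hb
  · intro t ht
    have : t = 2 := by omega
    subst this
    exact hc

/-! ### Local kills -/

variable {i : I} (hres : Res cs h T X i)

include hres

/-- the middle node of `A₃` -/
theorem kill_A3 {a c : I} (h1 : A a i = -1 ∧ A i a = -1) (h2 : A i c = -1 ∧ A c i = -1)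
    (h3 : A a c = 0 ∧ A c a = 0) (ha : Nat.card (X (sr a)) = 2) (hb : Nat.card (X (sr i)) = 2)
    (hc : Nat.card (X (sr c)) = 2) (hK : ({a, i, c} : Set I) ≠ Set.univ) : False := by
  have hai : a ≠ i := by
    rintro rfl
    have := h1.1
    rw [h.diag] at this
    norm_num at this
  have hci : c ≠ i := by
    rintro rfl
    have := h2.1
    rw [h.diag] at this
    norm_num at this
  have hac : a ≠ c := by
    rintro rfl
    have := h3.1
    rw [h.diag] at this
    norm_num at this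
  have e : ({a, i, c} : Set I) \ {i} = {a, c} := by
    ext j
    simp only [Set.mem_sdiff, Set.mem_insert_iff, Set.mem_singleton_iff]
    constructor
    · rintro ⟨h4 | h4 | h4, h5⟩
      · exact Or.inl h4
      · exact (h5 h4).elim
      · exact Or.inr h4
    · rintro (rfl | rfl)
      · exact ⟨Or.inl rfl, hai⟩
      · exact ⟨Or.inr (Or.inr rfl), hci⟩
  refine kill (r := 35) (b := 5) hres hK ?_ (by norm_num) (by norm_num)
  rw [e, card_comm R hac h3.1 ha hc, card_A3 R h1 h2 h3 ha hb hc]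
  ring

/-- a node with `|X_i| = 2` in a `B₂` with `|X_c| = 4` -/
theorem kill_B2 {c : I} (h2 : (A i c = -1 ∧ A c i = -2) ∨ (A i c = -2 ∧ A c i = -1))
    (hb : Nat.card (X (sr i)) = 2) (hc : Nat.card (X (sr c)) = 4) (hK : ({i, c} : Set I) ≠ Set.univ) : False := by
  have hci : c ≠ i := by
    rintro rfl
    rcases h2 with h2 | h2
    · have := h2.1
      rw [h.diag] at this
      norm_num at this
    · have := h2.1
      rw [h.diag] at this
      norm_num at this
  have e : ({i, c} : Set I) \ {i} = {c} := by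
    ext j
    simp only [Set.mem_sdiff, Set.mem_insert_iff, Set.mem_singleton_iff]
    constructor
    · rintro ⟨h4 | h4, h5⟩
      · exact (h5 h4).elim
      · exact h4
    · rintro rfl
      exact ⟨Or.inr rfl, hci⟩
  refine kill (r := 27) (b := 4) hres hK ?_ (by norm_num) (by norm_num)
  rw [e, card_one R hc, card_B2 R h2 hb hc]
  ring

/-- the middle node of `B₃` / `C₃` -/
theorem kill_B3_mid {a c : I} (h1 : A a i = -1 ∧ A i a = -1)
    (h2 : (A i c = -1 ∧ A c i = -2) ∨ (A i c = -2 ∧ A c i = -1))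
    (h3 : A a c = 0 ∧ A c a = 0) (ha : Nat.card (X (sr a)) = 2) (hb : Nat.card (X (sr i)) = 2)
    (hc : Nat.card (X (sr c)) = 2) (hK : ({a, i, c} : Set I) ≠ Set.univ) : False := by
  have hai : a ≠ i := by
    rintro rfl
    have := h1.1
    rw [h.diag] at this
    norm_num at this
  have hci : c ≠ i := by
    rintro rfl
    rcases h2 with h2 | h2
    · have := h2.1
      rw [h.diag] at this
      norm_num at this
    · have := h2.1
      rw [h.diag] at this
      norm_num at this
  have hac : a ≠ c := by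
    rintro rfl
    have := h3.1
    rw [h.diag] at this
    norm_num at this
  have e : ({a, i, c} : Set I) \ {i} = {a, c} := by
    ext j
    simp only [Set.mem_sdiff, Set.mem_insert_iff, Set.mem_singleton_iff]
    constructor
    · rintro ⟨h4 | h4 | h4, h5⟩
      · exact Or.inl h4
      · exact (h5 h4).elim
      · exact Or.inr h4
    · rintro (rfl | rfl)
      · exact ⟨Or.inl rfl, hai⟩
      · exact ⟨Or.inr (Or.inr rfl), hci⟩
  refine kill (r := 315) (b := 8) hres hK ?_ (by norm_num) (by norm_num)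
  rw [e, card_comm R hac h3.1 ha hc, card_B3 R h1 h2 h3 ha hb hc]
  ring

/-- the last node of `B₃` / `C₃` -/
theorem kill_B3_last {a b : I} (h1 : A a b = -1 ∧ A b a = -1)
    (h2 : (A b i = -1 ∧ A i b = -2) ∨ (A b i = -2 ∧ A i b = -1))
    (h3 : A a i = 0 ∧ A i a = 0) (ha : Nat.card (X (sr a)) = 2) (hb : Nat.card (X (sr b)) = 2)
    (hc : Nat.card (X (sr i)) = 2) (hK : ({a, b, i} : Set I) ≠ Set.univ) : False := by
  have hbi : b ≠ i := by
    rintro rfl
    rcases h2 with h2 | h2
    · have := h2.1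
      rw [h.diag] at this
      norm_num at this
    · have := h2.1
      rw [h.diag] at this
      norm_num at this
  have hai : a ≠ i := by
    rintro rfl
    have := h3.1
    rw [h.diag] at this
    norm_num at this
  have e : ({a, b, i} : Set I) \ {i} = {a, b} := by
    ext j
    simp only [Set.mem_sdiff, Set.mem_insert_iff, Set.mem_singleton_iff]
    constructor
    · rintro ⟨h4 | h4 | h4, h5⟩
      · exact Or.inl h4
      · exact Or.inr h4
      · exact (h5 h4).elim
    · rintro (rfl | rfl)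
      · exact ⟨Or.inl rfl, hai⟩
      · exact ⟨Or.inr (Or.inl rfl), hbi⟩
  refine kill (r := 135) (b := 7) hres hK ?_ (by norm_num) (by norm_num)
  rw [e, card_A2 R h1.1 h1.2 ha hb, card_B3 R h1 h2 h3 ha hb hc]
  ring

/-- the first node of `B₃` with parameters (2, 2, 4) -/
theorem kill_B3_first {b c : I} (h1 : A i b = -1 ∧ A b i = -1)
    (h2 : (A b c = -1 ∧ A c b = -2) ∨ (A b c = -2 ∧ A c b = -1))
    (h3 : A i c = 0 ∧ A c i = 0) (ha : Nat.card (X (sr i)) = 2) (hb : Nat.card (X (sr b)) = 2)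
    (hc : Nat.card (X (sr c)) = 4) (hK : ({i, b, c} : Set I) ≠ Set.univ) : False := by
  have hbi : b ≠ i := by
    rintro rfl
    have := h1.1
    rw [h.diag] at this
    norm_num at this
  have hci : c ≠ i := by
    rintro rfl
    have := h3.1
    rw [h.diag] at this
    norm_num at this
  have e : ({i, b, c} : Set I) \ {i} = {b, c} := by
    ext j
    simp only [Set.mem_sdiff, Set.mem_insert_iff, Set.mem_singleton_iff]
    constructor
    · rintro ⟨h4 | h4 | h4, h5⟩
      · exact (h5 h4).elim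
      · exact Or.inl h4
      · exact Or.inr h4
    · rintro (rfl | rfl)
      · exact ⟨Or.inr (Or.inl rfl), hbi⟩
      · exact ⟨Or.inr (Or.inr rfl), hci⟩
  refine kill (r := 119) (b := 6) hres hK ?_ (by norm_num) (by norm_num)
  rw [e, card_B2 R h2 hb hc, card_B3 R h1 h2 h3 ha hb hc]
  ring

/-- the end node of `D_{l+3}`, `l ≥ 1` -/
theorem kill_D {K : Set I} {c : ℕ → I} {l : ℕ} (hl : 1 ≤ l) (hP : DPath A K c l) (hi : c 0 = i)
    (hy : ∀ t < l + 3, Nat.card (X (sr (c t))) = 2) (hK : K ≠ Set.univ) : False := by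
  have h1 := card_PJ_dpath R hP hy
  rw [hi] at h1
  have hg : gs 2 (l + 3) + 1 = 2 ^ (l + 3) := by
    unfold gs
    have := Nat.geomSum_eq (le_refl 2) (l + 3)
    rw [this]
    have h2 : 0 < 2 ^ (l + 3) := by positivity
    simp only [Nat.add_one_sub_one, Nat.div_one]
    omega
  have h2 : gs 2 (l + 3) * (1 + 2 ^ (l + 2)) + 1 = 2 ^ (2 * l + 5) + 2 ^ (l + 2) := by
    obtain ⟨g, hg'⟩ : ∃ g, gs 2 (l + 3) = g := ⟨_, rfl⟩
    rw [hg'] at hg ⊢
    have e1 : 2 ^ (l + 3) = 2 * 2 ^ (l + 2) := by ring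
    have e2 : 2 ^ (2 * l + 5) = 2 * 2 ^ (l + 2) * 2 ^ (l + 2) := by ring
    rw [e2]
    rw [e1] at hg
    generalize 2 ^ (l + 2) = u at *
    have : g = 2 * u - 1 := by omega
    have hu : 0 < 2 * u := by omega
    nlinarith only [hg]
  refine kill (r := gs 2 (l + 3) * (1 + 2 ^ (l + 2))) (b := 2 * l + 5) hres hK h1 ?_ ?_
  · rw [h2]
    have : 0 < 2 ^ (l + 2) := by positivity
    omega
  · rw [h2]
    have : 2 ^ (l + 2) < 2 ^ (2 * l + 5) := Nat.pow_lt_pow_right (by norm_num) (by omega)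
    rw [pow_succ 2 (2 * l + 5)]
    omega

end

/-! ### Entries of the Cartan matrix -/

section

variable {I : Type*} {M : CoxeterMatrix I} {A : I → I → ℤ} (h : IsCartan M A)

include h

theorem cart2 {i j : I} (e : M i j = 2) : A i j = 0 ∧ A j i = 0 := by
  have hne : i ≠ j := by
    rintro rfl
    rw [M.diagonal] at e
    omega
  rcases h.rel i j hne with h1 | h1 | h1 | h1
  · exact h1.2
  · omega
  · omega
  · omega

theorem cart3 {i j : I} (e : M i j = 3) : A i j = -1 ∧ A j i = -1 := by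
  have hne : i ≠ j := by
    rintro rfl
    rw [M.diagonal] at e
    omega
  rcases h.rel i j hne with h1 | h1 | h1 | h1
  · omega
  · exact h1.2
  · omega
  · omega

theorem cart4 {i j : I} (e : M i j = 4) : (A i j = -1 ∧ A j i = -2) ∨ (A i j = -2 ∧ A j i = -1) := by
  have hne : i ≠ j := by
    rintro rfl
    rw [M.diagonal] at e
    omega
  rcases h.rel i j hne with h1 | h1 | h1 | h1
  · omega
  · omega
  · exact h1.2
  · omega

end

theorem ne_univ3 {m : ℕ} (hm : 3 < m) (a b c : Fin m) : ({a, b, c} : Set (Fin m)) ≠ Set.univ := by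
  intro e
  have h1 := Set.ncard_univ (Fin m)
  rw [← e, Nat.card_fin] at h1
  have h2 := Set.ncard_insert_le a ({b, c} : Set (Fin m))
  have h3 := Set.ncard_insert_le b ({c} : Set (Fin m))
  rw [Set.ncard_singleton] at h3
  omega

theorem ne_univ2 {m : ℕ} (hm : 2 < m) (a b : Fin m) : ({a, b} : Set (Fin m)) ≠ Set.univ := by
  intro e
  have h1 := Set.ncard_univ (Fin m)
  rw [← e, Nat.card_fin] at h1
  have h2 := Set.ncard_insert_le a ({b} : Set (Fin m))
  rw [Set.ncard_singleton] at h2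
  omega

/-! ### The families -/

section Fam

variable {m : ℕ} {W Y : Type*} [Group W] [Finite W] [Group Y] [Finite Y] {p : ℕ} {A : Fin m → Fin m → ℤ}
  {T : Subgroup Y} {n : Fin m → Y} {X : (Fin m → ℤ) → Subgroup Y} {i : Fin m}

theorem surv_A {cs : CoxeterSystem (Cfsg.Agent.LieRecognition.BNCox.cA m) W}
    {h : IsCartan (Cfsg.Agent.LieRecognition.BNCox.cA m) A} (R : RGD cs h p T n X)
    (hq : ∀ j, Nat.card (X (sr j)) = 2) (hres : Res cs h T X i) : (i : ℕ) = 0 ∨ (i : ℕ) + 1 = m ∨ m = 3 := by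
  by_contra hcon
  push Not at hcon
  obtain ⟨h1, h2, h3⟩ := hcon
  have hi := i.2
  have e3 : ∀ a b : Fin m, (a : ℕ) + 1 = b → Cfsg.Agent.LieRecognition.BNCox.cA m a b = 3 := by
    intro a b hab
    rw [Cfsg.Agent.LieRecognition.BNCox.cA_apply]
    show (if (a : ℕ) = b then 1 else if (a : ℕ) + 1 = b ∨ (b : ℕ) + 1 = a then 3 else 2) = 3
    rw [if_neg (by omega), if_pos (Or.inl hab)]
  have e2 : ∀ a b : Fin m, (a : ℕ) + 1 < b → Cfsg.Agent.LieRecognition.BNCox.cA m a b = 2 := by
    intro a b hab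
    rw [Cfsg.Agent.LieRecognition.BNCox.cA_apply]
    show (if (a : ℕ) = b then 1 else if (a : ℕ) + 1 = b ∨ (b : ℕ) + 1 = a then 3 else 2) = 2
    rw [if_neg (by omega), if_neg (by omega)]
  exact kill_A3 R hres (a := ⟨i - 1, by omega⟩) (c := ⟨i + 1, by omega⟩)
    (cart3 h (e3 _ _ (show (i : ℕ) - 1 + 1 = i by omega))) (cart3 h (e3 _ _ rfl))
    (cart2 h (e2 _ _ (show (i : ℕ) - 1 + 1 < i + 1 by omega))) (hq _) (hq _) (hq _) (ne_univ3 (by omega) _ _ _)

theorem surv_C {cs : CoxeterSystem (CoxeterMatrix.B m) W}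
    {h : IsCartan (CoxeterMatrix.B m) A} (R : RGD cs h p T n X)
    (hq : ∀ j, Nat.card (X (sr j)) = 2) (hres : Res cs h T X i) : (i : ℕ) = 0 ∨ m ≤ 3 := by
  by_contra hcon
  push Not at hcon
  obtain ⟨h1, h3⟩ := hcon
  have hi := i.2
  rcases (by omega : (i : ℕ) + 2 < m ∨ (i : ℕ) + 2 = m ∨ (i : ℕ) + 1 = m) with h4 | h4 | h4
  · exact kill_A3 R hres (a := ⟨i - 1, by omega⟩) (c := ⟨i + 1, by omega⟩)
      (cart_adj h (show (i : ℕ) - 1 + 1 = i by omega) (by omega)) (cart_adj h rfl (show (i : ℕ) + 1 + 1 < m by omega))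
      (cart_far h (show (i : ℕ) - 1 + 1 < i + 1 by omega)) (hq _) (hq _) (hq _) (ne_univ3 (by omega) _ _ _)
  · exact kill_B3_mid R hres (a := ⟨i - 1, by omega⟩) (c := ⟨i + 1, by omega⟩)
      (cart_adj h (show (i : ℕ) - 1 + 1 = i by omega) (by omega)) (cart_last h rfl (show (i : ℕ) + 1 + 1 = m by omega))
      (cart_far h (show (i : ℕ) - 1 + 1 < i + 1 by omega)) (hq _) (hq _) (hq _) (ne_univ3 (by omega) _ _ _)
  · exact kill_B3_last R hres (a := ⟨i - 2, by omega⟩) (b := ⟨i - 1, by omega⟩)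
      (cart_adj h (show (i : ℕ) - 2 + 1 = i - 1 by omega) (show (i : ℕ) - 1 + 1 < m by omega))
      (cart_last h (show (i : ℕ) - 1 + 1 = i by omega) (by omega))
      (cart_far h (show (i : ℕ) - 2 + 1 < i by omega)) (hq _) (hq _) (hq _) (ne_univ3 (by omega) _ _ _)

/-- `PSU_{2m}(2)` -/
theorem surv_U {cs : CoxeterSystem (CoxeterMatrix.B m) W}
    {h : IsCartan (CoxeterMatrix.B m) A} (R : RGD cs h p T n X) (hm : 2 ≤ m)
    (hq : ∀ j, Nat.card (X (sr j)) = if (j : ℕ) + 1 < m then 4 else 2) (hi2 : Nat.card (X (sr i)) = 2)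
    (hres : Res cs h T X i) : m = 2 ∧ (i : ℕ) = 1 := by
  have hi := i.2
  have h1 : (i : ℕ) + 1 = m := by
    by_contra hcon
    rw [hq, if_pos (by omega)] at hi2
    omega
  rcases (by omega : m = 2 ∨ 3 ≤ m) with h2 | h2
  · exact ⟨h2, by omega⟩
  · exfalso
    refine kill_B2 R hres (c := ⟨i - 1, by omega⟩) ?_ hi2 ?_ (ne_univ2 (by omega) _ _)
    · have := cart_last h (i := ⟨i - 1, by omega⟩) (j := i) (show (i : ℕ) - 1 + 1 = i by omega) h1
      (clear * - this; tauto)
    · rw [hq, if_pos (show (i : ℕ) - 1 + 1 < m by omega)]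

/-- `PΩ⁻_{2m+2}(2)` -/
theorem surv_minus {cs : CoxeterSystem (CoxeterMatrix.B m) W}
    {h : IsCartan (CoxeterMatrix.B m) A} (R : RGD cs h p T n X) (hm : 3 ≤ m)
    (hq : ∀ j, Nat.card (X (sr j)) = if (j : ℕ) + 1 < m then 2 else 4) (hi2 : Nat.card (X (sr i)) = 2)
    (hres : Res cs h T X i) : (i : ℕ) = 0 := by
  have hi := i.2
  have h1 : (i : ℕ) + 1 < m := by
    by_contra hcon
    rw [hq, if_neg (by omega)] at hi2
    omega
  by_contra hcon
  rcases (by omega : (i : ℕ) + 2 < m ∨ (i : ℕ) + 2 = m) with h4 | h4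
  · exact kill_A3 R hres (a := ⟨i - 1, by omega⟩) (c := ⟨i + 1, by omega⟩)
      (cart_adj h (show (i : ℕ) - 1 + 1 = i by omega) (by omega)) (cart_adj h rfl (show (i : ℕ) + 1 + 1 < m by omega))
      (cart_far h (show (i : ℕ) - 1 + 1 < i + 1 by omega))
      (by rw [hq, if_pos (show (i : ℕ) - 1 + 1 < m by omega)]) hi2
      (by rw [hq, if_pos (show (i : ℕ) + 1 + 1 < m by omega)]) (ne_univ3 (by omega) _ _ _)
  · refine kill_B2 R hres (c := ⟨i + 1, by omega⟩) (cart_last h rfl (show (i : ℕ) + 1 + 1 = m by omega)) hi2 ?_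
      (ne_univ2 (by omega) _ _)
    rw [hq, if_neg (show ¬ (i : ℕ) + 1 + 1 < m by omega)]

end Fam

/-- `PΩ⁺_{2(n+2)}(2)` -/
theorem surv_D {k : ℕ} {W Y : Type*} [Group W] [Finite W] [Group Y] [Finite Y] {p : ℕ}
    {A : Fin (k + 2) → Fin (k + 2) → ℤ} {T : Subgroup Y} {n : Fin (k + 2) → Y} {X : (Fin (k + 2) → ℤ) → Subgroup Y}
    {i : Fin (k + 2)} {cs : CoxeterSystem (Cfsg.Agent.Nodes.TypeD.M k) W}
    {h : IsCartan (Cfsg.Agent.Nodes.TypeD.M k) A} (R : RGD cs h p T n X) (hk : 2 ≤ k)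
    (hq : ∀ j, Nat.card (X (sr j)) = 2) (hres : Res cs h T X i) : (i : ℕ) = 0 ∨ (k = 2 ∧ (i : ℕ) ≠ 1) := by
  have hi := i.2
  have adj : ∀ a b : Fin (k + 2), ((b : ℕ) < k + 1 ∧ (a : ℕ) + 1 = b ∨ (b : ℕ) = k + 1 ∧ (a : ℕ) + 2 = b) →
      A a b = -1 ∧ A b a = -1 := fun a b hab => cartD_adj h hab
  have far : ∀ a b : Fin (k + 2), a ≠ b → ¬ ((b : ℕ) < k + 1 ∧ (a : ℕ) + 1 = b ∨ (b : ℕ) = k + 1 ∧ (a : ℕ) + 2 = b) →
      ¬ ((a : ℕ) < k + 1 ∧ (b : ℕ) + 1 = a ∨ (a : ℕ) = k + 1 ∧ (b : ℕ) + 2 = a) → A a b = 0 ∧ A b a = 0 :=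
    fun a b h1 h2 h3 => cartD_far h h1 h2 h3
  by_contra hcon
  push Not at hcon
  obtain ⟨h1, h2⟩ := hcon
  have nv : ∀ a b : ℕ, ∀ ha : a < k + 2, ∀ hb : b < k + 2, a ≠ b → (⟨a, ha⟩ : Fin (k + 2)) ≠ ⟨b, hb⟩ :=
    fun a b ha hb hab e => hab (congrArg Fin.val e)
  rcases (by omega : (i : ℕ) + 1 < k ∨ (i : ℕ) + 1 = k ∨ (i : ℕ) = k ∨ (i : ℕ) = k + 1) with h4 | h4 | h4 | h4
  · refine kill_A3 R hres (a := ⟨i - 1, by omega⟩) (c := ⟨i + 1, by omega⟩) (adj _ _ ?_) (adj _ _ ?_) (far _ _ ?_ ?_ ?_)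
      (hq _) (hq _) (hq _) (ne_univ3 (by omega) _ _ _)
    · left
      show (i : ℕ) < k + 1 ∧ (i : ℕ) - 1 + 1 = i
      omega
    · left
      show (i : ℕ) + 1 < k + 1 ∧ (i : ℕ) + 1 = i + 1
      omega
    · exact nv _ _ _ _ (by omega)
    · show ¬ ((i : ℕ) + 1 < k + 1 ∧ (i : ℕ) - 1 + 1 = i + 1 ∨ (i : ℕ) + 1 = k + 1 ∧ (i : ℕ) - 1 + 2 = i + 1)
      omega
    · show ¬ ((i : ℕ) - 1 < k + 1 ∧ (i : ℕ) + 1 + 1 = i - 1 ∨ (i : ℕ) - 1 = k + 1 ∧ (i : ℕ) + 1 + 2 = i - 1)
      omega
  · refine kill_A3 R hres (a := ⟨i - 1, by omega⟩) (c := ⟨i + 1, by omega⟩) (adj _ _ ?_) (adj _ _ ?_) (far _ _ ?_ ?_ ?_)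
      (hq _) (hq _) (hq _) (ne_univ3 (by omega) _ _ _)
    · left
      show (i : ℕ) < k + 1 ∧ (i : ℕ) - 1 + 1 = i
      omega
    · left
      show (i : ℕ) + 1 < k + 1 ∧ (i : ℕ) + 1 = i + 1
      omega
    · exact nv _ _ _ _ (by omega)
    · show ¬ ((i : ℕ) + 1 < k + 1 ∧ (i : ℕ) - 1 + 1 = i + 1 ∨ (i : ℕ) + 1 = k + 1 ∧ (i : ℕ) - 1 + 2 = i + 1)
      omega
    · show ¬ ((i : ℕ) - 1 < k + 1 ∧ (i : ℕ) + 1 + 1 = i - 1 ∨ (i : ℕ) - 1 = k + 1 ∧ (i : ℕ) + 1 + 2 = i - 1)
      omega
  · -- `i` the first leaf of the fork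
    have hk3 : 3 ≤ k := by
      by_contra h5
      have h6 : k = 2 := by omega
      have := h2 h6
      omega
    let c : ℕ → Fin (k + 2) := fun t => if t = 0 then i else if t = 1 then ⟨k - 1, by omega⟩ else
      if t = 2 then ⟨k - 2, by omega⟩ else ⟨k + 1, by omega⟩
    have c0 : ((c 0 : Fin (k + 2)) : ℕ) = k := h4
    have c1 : ((c 1 : Fin (k + 2)) : ℕ) = k - 1 := rfl
    have c2 : ((c 2 : Fin (k + 2)) : ℕ) = k - 2 := rfl
    have c3 : ((c 3 : Fin (k + 2)) : ℕ) = k + 1 := rfl
    have hinj : ∀ s < 4, ∀ t < 4, c s = c t → s = t := by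
      intro s hs t ht e
      have e := congrArg Fin.val e
      interval_cases s <;> interval_cases t <;> simp only [c0, c1, c2, c3] at e <;> omega
    refine kill_D R hres (K := {j | ∃ t < 4, c t = j}) (c := c) (l := 1) le_rfl ⟨?_, ?_, ?_, ?_, ?_, ?_, ?_, hinj⟩ rfl
      (fun _ _ => hq _) ?_
    · exact fun t ht => ⟨t, ht, rfl⟩
    · intro t ht
      interval_cases t
      · have := adj (c 1) (c 0) (Or.inl (by rw [c0, c1]; omega))
        exact ⟨this.2, this.1⟩
      · have := adj (c 2) (c 1) (Or.inl (by rw [c2, c1]; (clear * - c3; omega)))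
        exact ⟨this.2, this.1⟩
    · exact adj (c 1) (c 3) (Or.inr (by rw [c3, c1]; omega))
    · intro s t hs ht
      have : s = 0 := by omega
      have : t = 2 := by omega
      subst_vars
      exact far (c 0) (c 2) (fun e => by have := congrArg Fin.val e; omega) (by rw [c0, c2]; omega)
        (by rw [c0, c2]; omega)
    · intro s hs
      have : s = 0 := by omega
      subst_vars
      exact far (c 0) (c 3) (fun e => by have := congrArg Fin.val e; omega) (by rw [c0, c3]; omega)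
        (by rw [c0, c3]; omega)
    · exact far (c 2) (c 3) (fun e => by have := congrArg Fin.val e; omega) (by rw [c2, c3]; omega)
        (by rw [c2, c3]; omega)
    · rintro j ⟨t, ht, rfl⟩ h6
      exact (h6 t ht rfl).elim
    · intro e
      obtain ⟨t, ht, h6⟩ : (⟨0, by omega⟩ : Fin (k + 2)) ∈ {j | ∃ t < 4, c t = j} := by rw [e]; trivial
      have h6 := congrArg Fin.val h6
      interval_cases t <;> simp only [c0, c1, c2, c3] at h6 <;> (clear * - h4 hk3 c0 c3 h6 c1 c2; omega)
  · have hk3 : 3 ≤ k := by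
      by_contra h5
      have h6 : k = 2 := by omega
      have := h2 h6
      omega
    let c : ℕ → Fin (k + 2) := fun t => if t = 0 then i else if t = 1 then ⟨k - 1, by omega⟩ else
      if t = 2 then ⟨k - 2, by omega⟩ else ⟨k, by omega⟩
    have c0 : ((c 0 : Fin (k + 2)) : ℕ) = k + 1 := h4
    have c1 : ((c 1 : Fin (k + 2)) : ℕ) = k - 1 := rfl
    have c2 : ((c 2 : Fin (k + 2)) : ℕ) = k - 2 := rfl
    have c3 : ((c 3 : Fin (k + 2)) : ℕ) = k := rfl
    have hinj : ∀ s < 4, ∀ t < 4, c s = c t → s = t := by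
      intro s hs t ht e
      have e := congrArg Fin.val e
      interval_cases s <;> interval_cases t <;> simp only [c0, c1, c2, c3] at e <;> omega
    refine kill_D R hres (K := {j | ∃ t < 4, c t = j}) (c := c) (l := 1) le_rfl ⟨?_, ?_, ?_, ?_, ?_, ?_, ?_, hinj⟩ rfl
      (fun _ _ => hq _) ?_
    · exact fun t ht => ⟨t, ht, rfl⟩
    · intro t ht
      interval_cases t
      · have := adj (c 1) (c 0) (Or.inr (by rw [c0, c1]; (clear * - c3; omega)))
        exact ⟨this.2, this.1⟩
      · have := adj (c 2) (c 1) (Or.inl (by rw [c2, c1]; (clear * - c3; omega)))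
        exact ⟨this.2, this.1⟩
    · exact adj (c 1) (c 3) (Or.inl (by rw [c3, c1]; (clear * - h4 hk3 c0 c1 c3; omega)))
    · intro s t hs ht
      have : s = 0 := by omega
      have : t = 2 := by omega
      subst_vars
      exact far (c 0) (c 2) (fun e => by have := congrArg Fin.val e; omega) (by rw [c0, c2]; omega)
        (by rw [c0, c2]; omega)
    · intro s hs
      have : s = 0 := by omega
      subst_vars
      exact far (c 0) (c 3) (fun e => by have := congrArg Fin.val e; omega) (by rw [c0, c3]; omega)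
        (by rw [c0, c3]; omega)
    · exact far (c 2) (c 3) (fun e => by have := congrArg Fin.val e; omega) (by rw [c2, c3]; omega)
        (by rw [c2, c3]; omega)
    · rintro j ⟨t, ht, rfl⟩ h6
      exact (h6 t ht rfl).elim
    · intro e
      obtain ⟨t, ht, h6⟩ : (⟨0, by omega⟩ : Fin (k + 2)) ∈ {j | ∃ t < 4, c t = j} := by rw [e]; trivial
      have h6 := congrArg Fin.val h6
      interval_cases t <;> simp only [c0, c1, c2, c3] at h6 <;> (clear * - h4 hk3 c0 c3 h6 c2; omega)

/-! ### Exceptional types -/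

section Exc

variable {W Y : Type*} [Group W] [Finite W] [Group Y] [Finite Y] {p : ℕ} {T : Subgroup Y}

theorem surv_F4 {A : Fin 4 → Fin 4 → ℤ} {n : Fin 4 → Y} {X : (Fin 4 → ℤ) → Subgroup Y} {i : Fin 4}
    {cs : CoxeterSystem CoxeterMatrix.F₄ W} {h : IsCartan CoxeterMatrix.F₄ A} (R : RGD cs h p T n X)
    (hq : ∀ j, Nat.card (X (sr j)) = 2) (hres : Res cs h T X i) : i = 0 ∨ i = 3 := by
  fin_cases i
  · exact Or.inl rfl
  · exfalso
    exact kill_B3_mid R hres (a := 0) (c := 2) (cart3 h rfl) (cart4 h rfl) (cart2 h rfl) (hq _) (hq _) (hq _)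
      (ne_univ3 (by norm_num) _ _ _)
  · exfalso
    exact kill_B3_mid R hres (a := 3) (c := 1) (cart3 h rfl) (cart4 h rfl) (cart2 h rfl) (hq _) (hq _) (hq _)
      (ne_univ3 (by norm_num) _ _ _)
  · exact Or.inr rfl

/-- `²E₆(2)` -/
theorem surv_2E6 {A : Fin 4 → Fin 4 → ℤ} {n : Fin 4 → Y} {X : (Fin 4 → ℤ) → Subgroup Y} {i : Fin 4}
    {cs : CoxeterSystem CoxeterMatrix.F₄ W} {h : IsCartan CoxeterMatrix.F₄ A} (R : RGD cs h p T n X)
    (hq : ∀ j : Fin 4, Nat.card (X (sr j)) = if (j : ℕ) < 2 then 2 else 4) (hi : Nat.card (X (sr i)) = 2)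
    (hres : Res cs h T X i) : False := by
  fin_cases i
  · exact kill_B3_first R hres (b := 1) (c := 2) (cart3 h rfl) (cart4 h rfl) (cart2 h rfl) hi (hq _) (hq _)
      (ne_univ3 (by norm_num) _ _ _)
  · exact kill_B2 R hres (c := 2) (cart4 h rfl) hi (hq _) (ne_univ2 (by norm_num) _ _)
  · have := hq 2
    rw [if_neg (by decide)] at this
    have h2 : Nat.card (X (sr (2 : Fin 4))) = 2 := hi
    omega
  · have := hq 3
    rw [if_neg (by decide)] at this
    have h2 : Nat.card (X (sr (3 : Fin 4))) = 2 := hi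
    omega

/-- a component of type `D` given by a list of nodes -/
theorem kill_list {m : ℕ} {M : CoxeterMatrix (Fin m)} {A : Fin m → Fin m → ℤ} {n : Fin m → Y}
    {X : (Fin m → ℤ) → Subgroup Y} {i : Fin m} {cs : CoxeterSystem M W} {h : IsCartan M A} (R : RGD cs h p T n X)
    (hq : ∀ j, Nat.card (X (sr j)) = 2) (hres : Res cs h T X i) (l : ℕ) (hl : 1 ≤ l) (c : ℕ → Fin m)
    (h0 : c 0 = i) (hadj : ∀ t < l + 1, M (c t) (c (t + 1)) = 3) (hfork : M (c l) (c (l + 2)) = 3)
    (hfar : ∀ t < l + 2, ∀ s < t, s + 1 < t → M (c s) (c t) = 2) (hfarl : ∀ s < l, M (c s) (c (l + 2)) = 2)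
    (hcomm : M (c (l + 1)) (c (l + 2)) = 2) (hinj : ∀ s < l + 3, ∀ t < l + 3, c s = c t → s = t)
    (hm : l + 3 < m) : False := by
  refine kill_D R hres (K := {j | ∃ t < l + 3, c t = j}) (c := c) hl ⟨fun t ht => ⟨t, ht, rfl⟩,
    fun t ht => cart3 h (hadj t ht), cart3 h hfork, fun s t h1 h2 => cart2 h (hfar t h2 s (by omega) h1),
    fun s hs => cart2 h (hfarl s hs), cart2 h hcomm, ?_, hinj⟩ h0 (fun _ _ => hq _) ?_
  · rintro j ⟨t, ht, rfl⟩ h6
    exact (h6 t ht rfl).elim
  · intro e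
    have h1 : {j | ∃ t < l + 3, c t = j} = c '' (Finset.range (l + 3)) := by
      ext j
      simp only [_root_.Set.mem_ofPred_eq, _root_.Finset.coe_range, _root_.Set.mem_image, _root_.Set.mem_Iio]
    have h2 := Set.ncard_univ (Fin m)
    rw [← e, h1, Nat.card_fin] at h2
    have h3 := Set.ncard_image_le (f := c) (Finset.finite_toSet (Finset.range (l + 3)))
    rw [Set.ncard_coe_finset, Finset.card_range] at h3
    omega

theorem surv_E6 {A : Fin 6 → Fin 6 → ℤ} {n : Fin 6 → Y} {X : (Fin 6 → ℤ) → Subgroup Y} {i : Fin 6}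
    {cs : CoxeterSystem CoxeterMatrix.E₆ W} {h : IsCartan CoxeterMatrix.E₆ A} (R : RGD cs h p T n X)
    (hq : ∀ j, Nat.card (X (sr j)) = 2) (hres : Res cs h T X i) : False := by
  fin_cases i
  · exact kill_list R hq hres 2 (by norm_num) (fun t => ([0, 2, 3, 4, 1] : List (Fin 6)).getD t 0) rfl (by decide)
      (by decide) (by decide) (by decide) (by decide)
      (by decide) (by norm_num)
  · exact kill_list R hq hres 1 (by norm_num) (fun t => ([1, 3, 2, 4] : List (Fin 6)).getD t 0) rfl (by decide)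
      (by decide) (by decide) (by decide) (by decide)
      (by decide) (by norm_num)
  · exact kill_A3 R hres (a := 0) (c := 3) (cart3 h rfl) (cart3 h rfl) (cart2 h rfl) (hq _) (hq _) (hq _)
      (ne_univ3 (by norm_num) _ _ _)
  · exact kill_A3 R hres (a := 2) (c := 4) (cart3 h rfl) (cart3 h rfl) (cart2 h rfl) (hq _) (hq _) (hq _)
      (ne_univ3 (by norm_num) _ _ _)
  · exact kill_A3 R hres (a := 3) (c := 5) (cart3 h rfl) (cart3 h rfl) (cart2 h rfl) (hq _) (hq _) (hq _)
      (ne_univ3 (by norm_num) _ _ _)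
  · exact kill_list R hq hres 2 (by norm_num) (fun t => ([5, 4, 3, 2, 1] : List (Fin 6)).getD t 0) rfl (by decide)
      (by decide) (by decide) (by decide) (by decide)
      (by decide) (by norm_num)

theorem surv_E7 {A : Fin 7 → Fin 7 → ℤ} {n : Fin 7 → Y} {X : (Fin 7 → ℤ) → Subgroup Y} {i : Fin 7}
    {cs : CoxeterSystem CoxeterMatrix.E₇ W} {h : IsCartan CoxeterMatrix.E₇ A} (R : RGD cs h p T n X)
    (hq : ∀ j, Nat.card (X (sr j)) = 2) (hres : Res cs h T X i) : False := by
  fin_cases i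
  · exact kill_list R hq hres 2 (by norm_num) (fun t => ([0, 2, 3, 4, 1] : List (Fin 7)).getD t 0) rfl (by decide)
      (by decide) (by decide) (by decide) (by decide)
      (by decide) (by norm_num)
  · exact kill_list R hq hres 1 (by norm_num) (fun t => ([1, 3, 2, 4] : List (Fin 7)).getD t 0) rfl (by decide)
      (by decide) (by decide) (by decide) (by decide)
      (by decide) (by norm_num)
  · exact kill_A3 R hres (a := 0) (c := 3) (cart3 h rfl) (cart3 h rfl) (cart2 h rfl) (hq _) (hq _) (hq _)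
      (ne_univ3 (by norm_num) _ _ _)
  · exact kill_A3 R hres (a := 2) (c := 4) (cart3 h rfl) (cart3 h rfl) (cart2 h rfl) (hq _) (hq _) (hq _)
      (ne_univ3 (by norm_num) _ _ _)
  · exact kill_A3 R hres (a := 3) (c := 5) (cart3 h rfl) (cart3 h rfl) (cart2 h rfl) (hq _) (hq _) (hq _)
      (ne_univ3 (by norm_num) _ _ _)
  · exact kill_A3 R hres (a := 4) (c := 6) (cart3 h rfl) (cart3 h rfl) (cart2 h rfl) (hq _) (hq _) (hq _)
      (ne_univ3 (by norm_num) _ _ _)
  · exact kill_list R hq hres 3 (by norm_num) (fun t => ([6, 5, 4, 3, 2, 1] : List (Fin 7)).getD t 0) rfl (by decide)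
      (by decide) (by decide) (by decide) (by decide)
      (by decide) (by norm_num)

theorem surv_E8 {A : Fin 8 → Fin 8 → ℤ} {n : Fin 8 → Y} {X : (Fin 8 → ℤ) → Subgroup Y} {i : Fin 8}
    {cs : CoxeterSystem CoxeterMatrix.E₈ W} {h : IsCartan CoxeterMatrix.E₈ A} (R : RGD cs h p T n X)
    (hq : ∀ j, Nat.card (X (sr j)) = 2) (hres : Res cs h T X i) : False := by
  fin_cases i
  · exact kill_list R hq hres 2 (by norm_num) (fun t => ([0, 2, 3, 4, 1] : List (Fin 8)).getD t 0) rfl (by decide)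
      (by decide) (by decide) (by decide) (by decide)
      (by decide) (by norm_num)
  · exact kill_list R hq hres 1 (by norm_num) (fun t => ([1, 3, 2, 4] : List (Fin 8)).getD t 0) rfl (by decide)
      (by decide) (by decide) (by decide) (by decide)
      (by decide) (by norm_num)
  · exact kill_A3 R hres (a := 0) (c := 3) (cart3 h rfl) (cart3 h rfl) (cart2 h rfl) (hq _) (hq _) (hq _)
      (ne_univ3 (by norm_num) _ _ _)
  · exact kill_A3 R hres (a := 2) (c := 4) (cart3 h rfl) (cart3 h rfl) (cart2 h rfl) (hq _) (hq _) (hq _)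
      (ne_univ3 (by norm_num) _ _ _)
  · exact kill_A3 R hres (a := 3) (c := 5) (cart3 h rfl) (cart3 h rfl) (cart2 h rfl) (hq _) (hq _) (hq _)
      (ne_univ3 (by norm_num) _ _ _)
  · exact kill_A3 R hres (a := 4) (c := 6) (cart3 h rfl) (cart3 h rfl) (cart2 h rfl) (hq _) (hq _) (hq _)
      (ne_univ3 (by norm_num) _ _ _)
  · exact kill_A3 R hres (a := 5) (c := 7) (cart3 h rfl) (cart3 h rfl) (cart2 h rfl) (hq _) (hq _) (hq _)
      (ne_univ3 (by norm_num) _ _ _)
  · exact kill_list R hq hres 4 (by norm_num) (fun t => ([7, 6, 5, 4, 3, 2, 1] : List (Fin 8)).getD t 0) rfl (by decide)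
      (by decide) (by decide) (by decide) (by decide)
      (by decide) (by norm_num)

end Exc

end Cfsg.Agent.H284.TThree
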